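import Cfsg.Agent.Fi22Three.Fast

/-!
The fast tables agree with the tables of the nine letters.
-/

set_option autoImplicit false
set_option maxRecDepth 100000

namespace CfsgLib.Fi22Three

open CfsgLib.CosetEnum CfsgLib.Fi22Out

noncomputable section

theorem pick_high : ∀ b, Nat.ble 28 b = true → ∀ x, x < 9 → pickL x b = 0 := by
  intro b hb x hx
  have hk : ∀ k, k ≤ 28 → Nat.ble k b = true :=
    fun k hk => Nat.ble_eq_true_of_le (hk.trans (Nat.le_of_ble_eq_true hb))
  interval_cases x
  exacts [pick0_high b hk, pick1_high b hk, pick2_high b hk, pick3_high b hk, pick4_high b hk, pick5_high b hk,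
    pick6_high b hk, pick7_high b hk, pick8_high b hk]

theorem letter_reduce (x : ℕ) : ∃ y, y < 9 ∧ tb x = tb y ∧ ∀ i, fext x i = fext y i := by
  by_cases hx : x < 9
  · exact ⟨x, hx, rfl, fun _ => rfl⟩
  have h : ∀ k, k ≤ 8 → Nat.ble k x = true := fun k hk => Nat.ble_eq_true_of_le (by omega)
  refine ⟨8, by norm_num, ?_, fun i => ?_⟩
  · simp only [tb, Fi22H.tb, h 1 (by norm_num), h 2 (by norm_num), h 3 (by norm_num), h 4 (by norm_num),
      h 5 (by norm_num), h 6 (by norm_num), h 7 (by norm_num), h 8 le_rfl]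
    rfl
  · simp only [fext, pickL, pickHigh, h 1 (by norm_num), h 2 (by norm_num), h 3 (by norm_num), h 4 (by norm_num),
      h 5 (by norm_num), h 6 (by norm_num), h 7 (by norm_num), h 8 le_rfl]
    rfl

theorem fext_eq (x i : ℕ) : fext x i = ext (tb x) i := by
  obtain ⟨y, hy, ht, hf⟩ := letter_reduce x
  rw [hf, ht]
  by_cases hi : i < 3584
  · have h : allR (fun i => Nat.beq (fext y i) (ext (tb y) i)) 12 0 = true := by
      interval_cases y
      exacts [fext0_ok, fext1_ok, fext2_ok, fext3_ok, fext4_ok, fext5_ok, fext6_ok, fext7_ok, fext8_ok]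
    exact Nat.eq_of_beq_eq_true (allR_spec 12 0 h i (Nat.zero_le _) (by omega))
  · have hlog := List.all_eq_true.mp tb_small y
      (by interval_cases y <;> simp)
    have hlt : tb y < 2 ^ (width * i) :=
      lt_of_lt_of_le (Nat.lt_pow_succ_log_self (by norm_num) _) (Nat.pow_le_pow_right (by norm_num) (by
        have := of_decide_eq_true (show decide (Nat.log 2 (tb y) < 71680) = true by simpa using hlog)
        have hw : width = 20 := rfl
        rw [hw]
        omega))
    have hb : Nat.ble 28 (Nat.shiftRight i 7) = true := Nat.ble_eq_true_of_le (by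
      show 28 ≤ i >>> 7
      rw [Nat.shiftRight_eq_div_pow]
      omega)
    have hz : pickL y (Nat.shiftRight i 7) = 0 := by
      exact pick_high _ hb y hy
    show Nat.land (Nat.shiftRight (pickL y (Nat.shiftRight i 7)) _) 1048575 = Nat.land (tb y >>> (width * i)) mask
    rw [hz, show Nat.shiftRight 0 (Nat.mul 20 (Nat.land i 127)) = 0 from Nat.zero_shiftRight _,
      Nat.shiftRight_eq_div_pow, Nat.div_eq_of_lt hlt]
    rfl

theorem fwalk_eq : ∀ (w : List ℕ) (i : ℕ), fwalk w i = walk tb w i
  | [], _ => rfl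
  | x :: w, i => by
    show force (fext x i) (fwalk w) = walk tb w (T tb x i)
    rw [force_eq, fwalk_eq w, fext_eq]
    rfl

theorem fmv_eq : fmv = mv := funext fun p => funext fun q => fwalk_eq (dw p) q

theorem fcom_eq : fcom = com := by
  funext p q
  rw [fcom, fmv_eq, com]

end

end CfsgLib.Fi22Three
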