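import Cfsg.Agent.Fi22Out.Fixed
import Cfsg.Agent.Fi22Three.FastEq

/-!
Elements of `Cfsg.Spor.Fi22` given by lists of points, each standing for its transposition, and their
action on the 3510 points.
-/

set_option autoImplicit false
set_option maxRecDepth 100000

namespace CfsgLib.Fi22Three

open CfsgLib.CosetEnum CfsgLib.Fi22Out

noncomputable section

/-- A number as a point. -/
def pt (i : ℕ) : Fin N := if h : i < 3510 then ⟨i, h⟩ else ⟨0, show 0 < 3510 by norm_num⟩

theorem pt_val {i : ℕ} (h : i < 3510) : ((pt i : Fin N) : ℕ) = i := by rw [pt, dif_pos h]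

theorem pt_fin (i : Fin N) : pt i = i := Fin.ext (pt_val (lt_of_pt i))

/-- The product of the transpositions at the listed points. -/
def el (L : List ℕ) : G := (L.map fun p => d (pt p)).prod

/-- The image of a number under the inverse of a listed product. -/
def img (L : List ℕ) (i : ℕ) : ℕ :=
  List.rec (fun a => a) (fun p _ ih a => force (fmv p a) ih) L i

theorem img_nil (i : ℕ) : img [] i = i := rfl

theorem img_cons (p : ℕ) (L : List ℕ) (i : ℕ) : img (p :: L) i = img L (mv p i) :=
  (force_eq (fmv p i) (img L)).trans (by rw [fmv_eq])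

theorem img_append : ∀ (L M : List ℕ) (i : ℕ), img (L ++ M) i = img M (img L i)
  | [], _, _ => rfl
  | p :: L, M, i => by rw [List.cons_append, img_cons, img_append L M, img_cons]

/-- All listed points are points. -/
def ok (L : List ℕ) : Bool := L.all fun p => Nat.blt p 3510

theorem el_nil : el [] = 1 := rfl

theorem el_cons (p : ℕ) (L : List ℕ) : el (p :: L) = d (pt p) * el L := rfl

theorem el_append (L M : List ℕ) : el (L ++ M) = el L * el M := by simp [el]

theorem el_reverse : ∀ L : List ℕ, el L.reverse = (el L)⁻¹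
  | [] => by simp [el]
  | p :: L => by
    rw [List.reverse_cons, el_append, el_reverse L, el_cons, el_cons, el_nil, mul_one, _root_.mul_inv_rev, d_inv]

theorem ok_append {L M : List ℕ} : ok (L ++ M) = true ↔ ok L = true ∧ ok M = true := by
  simp [ok, List.all_append]

theorem ok_reverse {L : List ℕ} : ok L.reverse = ok L := by simp [ok]

/-- The two products agree on the nine base points. -/
def agree (L M : List ℕ) : Bool := gpt.all fun k => Nat.beq (img L k) (img M k)

theorem el_conj (W L : List ℕ) : el (W ++ L ++ W.reverse) = el W * el L * (el W)⁻¹ := by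
  rw [el_append, el_append, el_reverse]

end

end CfsgLib.Fi22Three

namespace CfsgLib.Fi22Out.Act

open CfsgLib.CosetEnum CfsgLib.Fi22Three

variable (S : Act)
include S

theorem phi_el : ∀ (L : List ℕ), ok L = true → ∀ i : Fin N, (((S.φ (el L))⁻¹ i : Fin N) : ℕ) = img L i
  | [], _, i => by rw [el_nil, map_one, inv_one]; rfl
  | p :: L, h, i => by
    obtain ⟨hp, hL⟩ : p < 3510 ∧ ok L = true := by simpa [ok] using h
    rw [el_cons, map_mul, _root_.mul_inv_rev, Equiv.Perm.mul_apply, img_cons, phi_el L hL]
    congr 1
    rw [← map_inv, d_inv, S.phi_d, pt_val hp]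

theorem img_lt {L : List ℕ} (h : ok L = true) {i : ℕ} (hi : i < 3510) : img L i < 3510 := by
  have := S.phi_el L h ⟨i, hi⟩
  exact this ▸ lt_of_pt _

theorem eq_of_agree {L M : List ℕ} (hL : ok L = true) (hM : ok M = true) (h : agree L M = true) : el L = el M := by
  have key : el M * (el L)⁻¹ = 1 := by
    refine S.eq_one_of_comm fun k hk => ?_
    rw [map_mul, map_inv, Equiv.Perm.mul_apply]
    have hk' : gpt.getD k 0 ∈ gpt := by
      have : k < gpt.length := by simpa [gpt] using hk
      rw [List.getD_eq_getElem _ _ this]; exact List.getElem_mem this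
    have h1 := Nat.eq_of_beq_eq_true (List.all_eq_true.mp h _ hk')
    have h2 : (S.φ (el L))⁻¹ (gpF k) = (S.φ (el M))⁻¹ (gpF k) := Fin.ext (by
      rw [S.phi_el L hL, S.phi_el M hM]; exact h1)
    rw [h2]
    simp
  exact (mul_inv_eq_one.mp key).symm

theorem ne_of_moves {L M : List ℕ} (hL : ok L = true) (hM : ok M = true) (i : ℕ) (hi : i < 3510)
    (h : Nat.beq (img L i) (img M i) = false) : el L ≠ el M := by
  intro e
  have h1 := S.phi_el L hL ⟨i, hi⟩
  rw [e, S.phi_el M hM] at h1
  simp [← h1] at h

end CfsgLib.Fi22Out.Act
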